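import Cfsg.Agent.H319.One.Base
import Cfsg.Agent.OrdDiv.Table
import Cfsg.Agent.H800.Sp.NotAbA
import Cfsg.Agent.H800.Sp.NotAbB
import Cfsg.Agent.H573.Spor.MThirteen
import Cfsg.Agent.BpSevenCo.Conj
import Cfsg.Agent.H55.OutGen
import Cfsg.Agent.S2069
import Cfsg.Agent.S2085

/-!
# S4880: the sporadic groups and the Tits group (helper447)
-/

set_option autoImplicit false
set_option maxRecDepth 10000

namespace Cfsg.Agent.H447.One.Spor

open Subgroup Cfsg Cfsg.Agent.H319.One Cfsg.Agent.OrdDiv Cfsg.Agent.H800.Sp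

universe u

/-! ### The orders -/

/-- the primes up to `71` -/
def prs : List ℕ := [2, 3, 5, 7, 11, 13, 17, 19, 23, 29, 31, 37, 41, 43, 47, 53, 59, 61, 67, 71]

theorem prs_prime : ∀ q ∈ prs, q.Prime := by
  simp only [prs, List.forall_mem_cons]
  norm_num

/-- the pairs (prime, exact exponent) -/
def exc : Grp → List (ℕ × ℕ)
  | .hs => [(5, 3)]
  | .mcl => [(5, 3)]
  | .co3 => [(5, 3)]
  | .co2 => [(5, 3)]
  | .co1 => [(5, 4), (7, 2)]
  | .he => [(7, 3)]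
  | .ru => [(5, 3)]
  | .on => [(7, 3)]
  | .ly => [(5, 6)]
  | .fi24 => [(7, 3)]
  | .hn => [(5, 6)]
  | .th => [(5, 3), (7, 2)]
  | .b => [(5, 6), (7, 2)]
  | .m => [(5, 9), (7, 6), (11, 2), (13, 3)]
  | .j4 => [(11, 3)]
  | _ => []

/-- the check: `N` divides a power of the product of the primes; for a prime `q ≥ 5` either `q ^ 2 ∤ N` (`q ^ 3 ∤ N` if
`q = 5`), or the exact exponent is in the list -/
def ok (N : ℕ) (l : List (ℕ × ℕ)) : Bool :=
  (prs.prod ^ 64 % N == 0) && prs.all fun q =>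
    decide (q < 5) || !(N % q ^ (if q = 5 then 3 else 2) == 0) ||
      l.any fun x => Nat.beq x.1 q && (N % q ^ x.2 == 0) && !(N % q ^ (x.2 + 1) == 0)

theorem ok_spor : ∀ x ∈ spor, ok x.2 (exc x.1) = true := by decide +kernel

theorem mem_exc {N p n : ℕ} {l : List (ℕ × ℕ)} (h : ok N l = true) (hp : p.Prime) (h5 : 5 ≤ p) (h2 : 2 ≤ n)
    (h3 : p = 5 → 3 ≤ n) (hd : p ^ n ∣ N) (hm : ¬ p ^ (n + 1) ∣ N) : (p, n) ∈ l := by
  rw [ok, Bool.and_eq_true, List.all_eq_true, beq_iff_eq] at h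
  obtain ⟨h1, h4⟩ := h
  have hpN : p ∣ N := (dvd_pow_self p (by omega)).trans hd
  have hpp : p ∈ prs := by
    have h6 : p ∣ prs.prod := hp.dvd_of_dvd_pow (hpN.trans (Nat.dvd_of_mod_eq_zero h1))
    obtain ⟨q, hq, hpq⟩ := (hp.prime.dvd_prod_iff).1 h6
    rwa [(Nat.prime_dvd_prime_iff_eq hp (prs_prime q hq)).1 hpq]
  have h6 := h4 p hpp
  rw [Bool.or_eq_true, Bool.or_eq_true, decide_eq_true_eq, Bool.not_eq_true', List.any_eq_true] at h6
  rcases h6 with (h6 | h6) | ⟨x, hx, h6⟩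
  · omega
  · exfalso
    rw [beq_eq_false_iff_ne] at h6
    apply h6
    apply Nat.mod_eq_zero_of_dvd
    refine (pow_dvd_pow p ?_).trans hd
    split_ifs with h7
    · exact h3 h7
    · exact h2
  · rw [Bool.and_eq_true, Bool.and_eq_true, Nat.beq_eq, beq_iff_eq, Bool.not_eq_true', beq_eq_false_iff_ne] at h6
    obtain ⟨⟨h7, h8⟩, h9⟩ := h6
    have h10 : x.2 = n := by
      apply le_antisymm
      · by_contra hlt
        push Not at hlt
        exact hm ((pow_dvd_pow p hlt).trans (Nat.dvd_of_mod_eq_zero h8))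
      · by_contra hlt
        push Not at hlt
        exact h9 (Nat.mod_eq_zero_of_dvd ((pow_dvd_pow p hlt).trans hd))
    have h11 : x = (p, n) := Prod.ext h7 h10
    rwa [← h11]

/-! ### The kills -/

theorem false_of_notAb {p n : ℕ} [Fact p.Prime] {S : Type*} [Group S] (h : Hyp p n S) (hna : NotAb p S) : False := by
  obtain ⟨P⟩ : Nonempty (Sylow p S) := inferInstance
  refine hna P ⟨⟨fun a b => Subtype.ext ?_⟩⟩
  exact h.comm P P.isPGroup' a a.2 b b.2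

/-- `Out(S) = 1`: all elements of order `p` are conjugate -/
theorem conj_of_out {p n : ℕ} {S : Type*} [Group S] (h : Hyp p n S) (ho : Nat.card (Out S) = 1) {x y : S}
    (hx : orderOf x = p) (hy : orderOf y = p) : ∃ g : S, g * x * g⁻¹ = y := by
  obtain ⟨φ, hφ⟩ := h.one x y hx hy
  have h1 : Subsingleton (Out S) := (Nat.card_eq_one_iff_unique.1 ho).1
  have h2 : (QuotientGroup.mk φ : Out S) = QuotientGroup.mk 1 := Subsingleton.elim _ _
  rw [eq_comm, QuotientGroup.eq, inv_one, one_mul] at h2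
  obtain ⟨s, hs⟩ := h2
  exact ⟨s, by rw [← hφ, ← hs]; rfl⟩

theorem co1_seven {n : ℕ} (h : Hyp 7 n Cfsg.Spor.Co1) : False := by
  obtain ⟨g, hg⟩ := conj_of_out h S2069.result BpSevenCo.Conj.orderOf_x BpSevenCo.Conj.orderOf_y
  have h1 := LThreeMB.fr_conj g BpSevenCo.Conj.x
  rw [hg, BpSevenCo.Conj.fr_x, BpSevenCo.Conj.fr_y] at h1
  norm_num at h1

section monster

open Cfsg.Agent.LThreeMB (fr XX KChart.Cent KChart.pi KChart.chart)
open Cfsg.Agent.MonsterX Cfsg.Agent.MonsterX.Model Cfsg.Agent.MonsterX.MainSimple Cfsg.Agent.MonsterX.MainPack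
open Cfsg.Agent.MonsterX.MainBasic Cfsg.Agent.MonsterU
open Cfsg.Agent.BpSpor.MBigModel
open Cfsg.Agent.H573 Cfsg.Agent.H573.Spor.Monster

theorem m_thirteen_model (h : ∀ x y : MG, orderOf x = 13 → orderOf y = 13 → ∃ g : MG, g * x * g⁻¹ = y) : False := by
  have h13 : Fact (Nat.Prime 13) := ⟨by norm_num⟩
  have := Cfsg.Agent.H573.Spor.Monster.finite
  have hdz : 13 ∣ Nat.card ↥(centralizer ({zz} : Set MG)) := by
    rw [card_cent_z]; norm_num
  obtain ⟨x₀, hx₀⟩ := exists_prime_orderOf_dvd_card' (G := ↥(centralizer ({zz} : Set MG))) 13 hdz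
  have ht : LThreeB.Row.TA (tG MonsterN.LitFin.all.hG MonsterN.LitFin.all.hR) := IsConj.refl _
  have hdt := card_cent_t ht
  have hdt' : 13 ∣ Nat.card ↥(centralizer ({tG MonsterN.LitFin.all.hG MonsterN.LitFin.all.hR} : Set MG)) := by
    rw [hdt]; norm_num
  obtain ⟨x₁, hx₁⟩ := exists_prime_orderOf_dvd_card'
    (G := ↥(centralizer ({tG MonsterN.LitFin.all.hG MonsterN.LitFin.all.hR} : Set MG))) 13 hdt'
  obtain ⟨g, hg⟩ := h (x₁ : MG) (x₀ : MG) (by rw [Subgroup.orderOf_coe, hx₁]) (by rw [Subgroup.orderOf_coe, hx₀])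
  exact not_conj_thirteen hx₀ (by rw [Subgroup.orderOf_coe, hx₁]) ht
    (Cfsg.Agent.MThirteen.Row.ta_order ht) (mem_centralizer_singleton_iff.1 x₁.2) g 1 (by rw [hg, pow_one])

end monster

theorem m_thirteen {n : ℕ} (h : Hyp 13 n Cfsg.Spor.Monster) : False := by
  obtain ⟨e⟩ := Cfsg.Agent.MonsterP.Equiv.equiv
  apply m_thirteen_model
  intro x y hx hy
  obtain ⟨g, hg⟩ := conj_of_out h S2085.result (x := e.symm x) (y := e.symm y) (by rw [MulEquiv.orderOf_eq, hx])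
    (by rw [MulEquiv.orderOf_eq, hy])
  refine ⟨e g, ?_⟩
  have h1 := congrArg e hg
  rwa [map_mul, map_mul, map_inv, e.apply_symm_apply, e.apply_symm_apply] at h1

/-! ### The row -/

open Cfsg.Agent.H800.Sp.NotAbRows in
/-- **Row SPOR.** -/
theorem row_spor {p n : ℕ} [hp : Fact p.Prime] {S : Type u} [Group S] [Finite S] (h : Hyp p n S) {x : Grp × ℕ}
    (hx : x ∈ spor) (hr : Real x.1 S) :
    (p = 7 ∧ n = 2 ∧ (x.1 = .th ∨ x.1 = .b)) ∨ (p = 11 ∧ n = 2 ∧ x.1 = .m) := by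
  have hc := table_spor S x hx hr
  have hm := mem_exc (ok_spor x hx) hp.out h.five h.two h.three (hc ▸ h.dvd) (hc ▸ h.not_dvd)
  obtain ⟨g, N⟩ := x
  dsimp only at hm hr ⊢
  cases g
  case hs =>
    obtain ⟨rfl, rfl⟩ : p = 5 ∧ n = 3 := by simpa [exc] using hm
    exact (false_of_notAb h (hs_5 hr)).elim
  case mcl =>
    obtain ⟨rfl, rfl⟩ : p = 5 ∧ n = 3 := by simpa [exc] using hm
    exact (false_of_notAb h (mcl_5 hr)).elim
  case co3 =>
    obtain ⟨rfl, rfl⟩ : p = 5 ∧ n = 3 := by simpa [exc] using hm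
    exact (false_of_notAb h (co3_5 hr)).elim
  case co2 =>
    obtain ⟨rfl, rfl⟩ : p = 5 ∧ n = 3 := by simpa [exc] using hm
    exact (false_of_notAb h (co2_5 hr)).elim
  case co1 =>
    rcases (by simpa [exc] using hm : (p = 5 ∧ n = 4) ∨ (p = 7 ∧ n = 2)) with ⟨rfl, rfl⟩ | ⟨rfl, rfl⟩
    · exact (false_of_notAb h (co1_5 hr)).elim
    · obtain ⟨e⟩ := hr
      exact (co1_seven (h.congr e)).elim
  case he =>
    obtain ⟨rfl, rfl⟩ : p = 7 ∧ n = 3 := by simpa [exc] using hm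
    exact (false_of_notAb h (he_7 hr)).elim
  case ru =>
    obtain ⟨rfl, rfl⟩ : p = 5 ∧ n = 3 := by simpa [exc] using hm
    exact (false_of_notAb h (ru_5 hr)).elim
  case on =>
    obtain ⟨rfl, rfl⟩ : p = 7 ∧ n = 3 := by simpa [exc] using hm
    exact (false_of_notAb h (on_7 hr)).elim
  case ly =>
    obtain ⟨rfl, rfl⟩ : p = 5 ∧ n = 6 := by simpa [exc] using hm
    exact (false_of_notAb h (ly_5 hr)).elim
  case fi24 =>
    obtain ⟨rfl, rfl⟩ : p = 7 ∧ n = 3 := by simpa [exc] using hm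
    exact (false_of_notAb h (fi24_7 hr)).elim
  case hn =>
    obtain ⟨rfl, rfl⟩ : p = 5 ∧ n = 6 := by simpa [exc] using hm
    exact (false_of_notAb h (hn_5 hr)).elim
  case th =>
    rcases (by simpa [exc] using hm : (p = 5 ∧ n = 3) ∨ (p = 7 ∧ n = 2)) with ⟨rfl, rfl⟩ | ⟨rfl, rfl⟩
    · exact (false_of_notAb h (th_5 hr)).elim
    · exact Or.inl ⟨rfl, rfl, Or.inl rfl⟩
  case b =>
    rcases (by simpa [exc] using hm : (p = 5 ∧ n = 6) ∨ (p = 7 ∧ n = 2)) with ⟨rfl, rfl⟩ | ⟨rfl, rfl⟩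
    · exact (false_of_notAb h (b_5 hr)).elim
    · exact Or.inl ⟨rfl, rfl, Or.inr rfl⟩
  case m =>
    rcases (by simpa [exc] using hm : (p = 5 ∧ n = 9) ∨ (p = 7 ∧ n = 6) ∨ (p = 11 ∧ n = 2) ∨ (p = 13 ∧ n = 3)) with
      ⟨rfl, rfl⟩ | ⟨rfl, rfl⟩ | ⟨rfl, rfl⟩ | ⟨rfl, rfl⟩
    · exact (false_of_notAb h (m_5 hr)).elim
    · exact (false_of_notAb h (m_7 hr)).elim
    · exact Or.inr ⟨rfl, rfl, rfl⟩
    · obtain ⟨e⟩ := hr
      exact (m_thirteen (h.congr e)).elim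
  case j4 =>
    obtain ⟨rfl, rfl⟩ : p = 11 ∧ n = 3 := by simpa [exc] using hm
    exact (false_of_notAb h (j4_11 hr)).elim
  all_goals exact absurd hm (by simp [exc])

end Cfsg.Agent.H447.One.Spor
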